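import Mathlib

/-! # Feit–Higman project (helper6): definitions for the linear-algebra and arithmetic layers (Mathlib only) -/

set_option autoImplicit false

namespace Cfsg.Agent.Lib.Helper6.FH

open Matrix

/-- alternating product `x * y * x * ...` with `l` factors -/
def altP {M : Type*} [Monoid M] : ℕ → M → M → M
  | 0, _, _ => 1
  | l + 1, x, y => x * altP l y x

@[simp] lemma altP_zero {M : Type*} [Monoid M] (x y : M) : altP 0 x y = 1 := rfl

lemma altP_succ {M : Type*} [Monoid M] (l : ℕ) (x y : M) : altP (l + 1) x y = x * altP l y x := rfl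

/-- an irreducible matrix representation of the Hecke algebra of the dihedral group of order `2n` with
parameters `u`, `v` -/
structure HeckeRep (n : ℕ) (u v : ℂ) {m : ℕ} (a b : Matrix (Fin m) (Fin m) ℂ) : Prop where
  quadA : a * a = u • (1 : Matrix (Fin m) (Fin m) ℂ) + (u - 1) • a
  quadB : b * b = v • (1 : Matrix (Fin m) (Fin m) ℂ) + (v - 1) • b
  braid : altP n a b = altP n b a
  simple : ∀ U : Submodule ℂ (Fin m → ℂ), (∀ x ∈ U, a *ᵥ x ∈ U) → (∀ x ∈ U, b *ᵥ x ∈ U) → U = ⊥ ∨ U = ⊤

/-- the weighted pairing of two trace functions on the dihedral group of order `2n`: `F₀ l` is the value at the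
alternating word of length `l` starting with the first generator, `F₁ l` the same starting with the second -/
noncomputable def pair (n : ℕ) (u v : ℂ) (F₀ F₁ F₀' F₁' : ℕ → ℂ) : ℂ :=
  F₀ 0 * F₀' 0 + ∑ l ∈ Finset.Ico 1 n, (F₀ l * F₀' l / altP l u v + F₁ l * F₁' l / altP l v u) +
    F₀ n * F₀' n / altP n u v

/-- the value of `pair` on the two-dimensional representation with angle `2πj/n` -/
noncomputable def Dfun (n u v j : ℕ) : ℝ :=
  n * (((u : ℝ) - 1) ^ 2 / u + ((v : ℝ) - 1) ^ 2 / v +
      2 * (((u : ℝ) - 1) * ((v : ℝ) - 1) / Real.sqrt (u * v)) * Real.cos (2 * Real.pi * j / n) +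
      4 * (1 - Real.cos (2 * Real.pi * j / n) ^ 2)) / (2 * (1 - Real.cos (2 * Real.pi * j / n) ^ 2))

end Cfsg.Agent.Lib.Helper6.FH
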