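import Cfsg.Agent.Lib.Helper80.FH_A0
import Cfsg.Agent.Lib.Helper48.FH_A1
import Cfsg.Agent.Lib.Helper80.FH_A2
import Cfsg.Agent.Lib.Helper80.FH_A3
import Cfsg.Agent.Lib.Helper68.FH_A4
import Cfsg.Agent.Lib.Helper2.FH_A5E
import Cfsg.Agent.Lib.Helper2.FH_A5O
import Cfsg.Agent.Lib.Helper1.FH_A5J
import Cfsg.Agent.Lib.Helper68.FH_A6T
import Cfsg.Agent.Lib.Helper9.FH_A6P
import Cfsg.Agent.Lib.Helper1.FH_A6D
import Cfsg.Agent.Lib.Helper51.FH_C1
import Cfsg.Agent.Lib.Helper51.FH_C2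
import Cfsg.Agent.Lib.Helper51.FH_C3

/-! # Feit–Higman project (helper6): assembly of the linear-algebra layer (two-dimensional representations of the
dihedral Hecke algebra) and of the arithmetic layer.  Leaves by helper1, helper2, helper9, helper48, helper51, helper68,
helper80. -/

set_option autoImplicit false

namespace Cfsg.Agent.Lib.Helper6.FH

open Matrix

theorem exists_root {n u v : ℕ} (hn : 2 ≤ n) (hu : 2 ≤ u) (hv : 2 ≤ v) (hodd : Odd n → u = v)
    {a b : Matrix (Fin 2) (Fin 2) ℂ} (h : HeckeRep n (u : ℂ) (v : ℂ) a b) :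
    ∃ t : ℂ, t ^ n = 1 ∧ t ^ 2 ≠ 1 ∧ (a * b).trace = ((Real.sqrt (u * v) : ℝ) : ℂ) * (t + t⁻¹) := by
  rcases Nat.even_or_odd n with he | ho
  · exact exists_root_even hn he (by omega) (by omega) h
  · have huv := hodd ho
    subst huv
    obtain ⟨t, h1, h2, h3⟩ := exists_root_odd hn ho hu h
    refine ⟨t, h1, h2, ?_⟩
    rw [h3]
    congr 1
    have : Real.sqrt ((u : ℝ) * u) = u := by
      rw [Real.sqrt_mul_self (by positivity)]
    rw [this]
    simp

/-- the two-dimensional irreducible representations of the dihedral Hecke algebra -/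
theorem two_dim_main {n u v : ℕ} (hn : 2 ≤ n) (hu : 2 ≤ u) (hv : 2 ≤ v) (hodd : Odd n → u = v)
    {a b : Matrix (Fin 2) (Fin 2) ℂ} (h : HeckeRep n (u : ℂ) (v : ℂ) a b) :
    ∃ j : ℕ, 0 < j ∧ 2 * j < n ∧
      (a * b).trace = ((2 * Real.sqrt (u * v) * Real.cos (2 * Real.pi * j / n) : ℝ) : ℂ) ∧
      pair n u v (fun l => (altP l a b).trace) (fun l => (altP l b a).trace)
        (fun l => (altP l a b).trace) (fun l => (altP l b a).trace) = ((Dfun n u v j : ℝ) : ℂ) := by
  obtain ⟨t, htn, ht2, hτ⟩ := exists_root hn hu hv hodd h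
  have ht0 : t ≠ 0 := by
    rintro rfl
    rw [zero_pow (by omega)] at htn
    exact zero_ne_one htn
  obtain ⟨j, hj0, hjn, hj⟩ := exists_j (by omega) htn ht2
  refine ⟨j, hj0, hjn, ?_, ?_⟩
  · rw [hτ, hj]
    push_cast
    ring
  · have hρ : (((Real.sqrt (u * v) : ℝ) : ℂ)) ^ 2 = (u : ℂ) * v := by
      rw [← Complex.ofReal_pow, Real.sq_sqrt (by positivity)]
      push_cast
      ring
    have hτ' : (b * a).trace = ((Real.sqrt (u * v) : ℝ) : ℂ) * (t + t⁻¹) := by
      rw [Matrix.trace_mul_comm, hτ]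
    have hρ' : (((Real.sqrt (u * v) : ℝ) : ℂ)) ^ 2 = (v : ℂ) * u := by rw [hρ, mul_comm]
    have hu0 : (u : ℂ) ≠ 0 := by
      have : u ≠ 0 := by omega
      exact_mod_cast this
    have hv0 : (v : ℂ) ≠ 0 := by
      have : v ≠ 0 := by omega
      exact_mod_cast this
    apply to_Dfun hn (by omega) (by omega) ht2 ht0 hj
    exact pair_closed_form hn hu0 hv0 hρ htn ht2 _ _
      (fun k => (trace_closed_form h hρ ht0 hτ k).1) (fun k => (trace_closed_form h.symm hρ' ht0 hτ' k).1)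
      (fun k => (trace_closed_form h hρ ht0 hτ k).2) (fun k => (trace_closed_form h.symm hρ' ht0 hτ' k).2)

/-- Layer C main theorem -/
theorem arith {n u v N : ℕ} (hn : 2 ≤ n) (hu : 2 ≤ u) (hv : 2 ≤ v) (hodd : Odd n → u = v) (hN : 0 < N)
    (h : ∀ j : ℕ, 0 < j → 2 * j < n → ∃ d : ℕ, (d : ℝ) * Dfun n u v j = 2 * N) :
    n = 2 ∨ n = 3 ∨ n = 4 ∨ n = 6 ∨ n = 8 := by
  rcases Nat.even_or_odd n with he | ho
  · by_cases h2 : n = 2
    · exact Or.inl h2
    · have h4 : 4 ≤ n := by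
        obtain ⟨k, rfl⟩ := he
        omega
      rcases arith_even h4 he hu hv hN h with h' | h' | h' | h'
      · exact Or.inr (Or.inr (Or.inl h'))
      · exact Or.inr (Or.inr (Or.inr (Or.inl h')))
      · exact Or.inr (Or.inr (Or.inr (Or.inr h')))
      · subst h'
        exact (arith_twelve hu hv hN h).elim
  · have h3 : 3 ≤ n := by
      obtain ⟨k, rfl⟩ := ho
      omega
    have huv := hodd ho
    subst huv
    exact Or.inr (Or.inl (arith_odd h3 ho hu hN (h 1 one_pos (by omega))))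

end Cfsg.Agent.Lib.Helper6.FH
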