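import Cfsg.Agent.Lib.Helper6.St.Main2
import Cfsg.Agent.Lib.Helper6.FH.ADefs

/-! # Feit–Higman project (helper6): definitions for the group layer -/

set_option autoImplicit false

namespace Cfsg.Agent.Lib.Helper6.FH

open Cfsg Cfsg.Agent.Lib.Helper6 Cfsg.Agent.Lib.Helper6.St Cfsg.Agent.S0320

variable {G : Type*} [Group G] [Fintype G] (P : Cfsg.BNPair G)

open Classical in
/-- the normalised sum of a function over the cell `B w B`: `|B|⁻¹ ∑_{g ∈ B w B} χ g` -/
noncomputable def fz (χ : G → ℂ) (w : Wg P) : ℂ :=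
  (Nat.card P.B : ℂ)⁻¹ * ∑ g : G, if g ∈ Cw P w then χ g else 0

open Classical in
/-- the Hecke operator of the cell `B w B` in a representation: `|B|⁻¹ ∑_{g ∈ B w B} ρ g` -/
noncomputable def hop {V : Type*} [AddCommGroup V] [Module ℂ V] (ρ : Representation ℂ G V) (w : Wg P) :
    Module.End ℂ V :=
  (Nat.card P.B : ℂ)⁻¹ • ∑ g : G, if g ∈ Cw P w then ρ g else 0

/-- the (B,N)-pair has rank 2, with distinguished generators `s₁`, `s₂` -/
structure Rank2 (s₁ s₂ : P.S) : Prop where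
  hall : ∀ i : P.S, i = s₁ ∨ i = s₂
  hne : sig P s₁ ≠ sig P s₂

end Cfsg.Agent.Lib.Helper6.FH
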