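import Cfsg.Agent.Lib.Helper6.FH.AMain
import Cfsg.Agent.Lib.Helper97.FH_W3
import Cfsg.Agent.Lib.Helper68.FH_K
import Cfsg.Agent.Lib.Helper82.FH_B8
import Cfsg.Agent.Lib.Helper4.FH_G1
import Cfsg.Agent.Lib.Helper4.FH_G2
import Cfsg.Agent.Lib.Helper9.FH_G3

/-! # The Feit–Higman theorem for finite groups with a (B,N)-pair of rank 2 (helper6, assembly)

Kilmoyer–Solomon proof.  Leaves by helper1, helper2, helper4, helper9, helper34, helper39, helper48, helper51, helper68,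
helper80, helper82, helper97. -/

set_option autoImplicit false

namespace Cfsg.Agent.Lib.Helper6.FH

open Cfsg Cfsg.Agent.Lib.Helper6 Cfsg.Agent.Lib.Helper6.St Cfsg.Agent.S0320 Cfsg.Agent.Lib.Helper6.Exch
open Matrix

/-! ## auxiliary: `pair` only looks at arguments `≤ n`; versions of the Layer A theorems for `Fin m` with `m = 2`, `m = 1` -/

theorem pair_congr {n : ℕ} {u v : ℂ} {F₀ F₁ F₀' F₁' K₀ K₁ K₀' K₁' : ℕ → ℂ}
    (h0 : ∀ l ≤ n, F₀ l = K₀ l) (h1 : ∀ l ≤ n, F₁ l = K₁ l)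
    (h0' : ∀ l ≤ n, F₀' l = K₀' l) (h1' : ∀ l ≤ n, F₁' l = K₁' l) :
    pair n u v F₀ F₁ F₀' F₁' = pair n u v K₀ K₁ K₀' K₁' := by
  unfold pair
  rw [h0 0 (Nat.zero_le _), h0' 0 (Nat.zero_le _), h0 n le_rfl, h0' n le_rfl]
  congr 2
  apply Finset.sum_congr rfl
  intro l hl
  rw [Finset.mem_Ico] at hl
  rw [h0 l hl.2.le, h1 l hl.2.le, h0' l hl.2.le, h1' l hl.2.le]

theorem two_dim_main' {n u v m : ℕ} (hm : m = 2) (hn : 2 ≤ n) (hu : 2 ≤ u) (hv : 2 ≤ v) (hodd : Odd n → u = v)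
    {a b : Matrix (Fin m) (Fin m) ℂ} (h : HeckeRep n (u : ℂ) (v : ℂ) a b) :
    ∃ j : ℕ, 0 < j ∧ 2 * j < n ∧
      (a * b).trace = ((2 * Real.sqrt (u * v) * Real.cos (2 * Real.pi * j / n) : ℝ) : ℂ) ∧
      pair n u v (fun l => (altP l a b).trace) (fun l => (altP l b a).trace)
        (fun l => (altP l a b).trace) (fun l => (altP l b a).trace) = ((Dfun n u v j : ℝ) : ℂ) := by
  subst hm
  exact two_dim_main hn hu hv hodd h

theorem trace_determined' {n m m' : ℕ} (hm : m = 2) (hm' : m' = 2) {u v : ℂ} {a b : Matrix (Fin m) (Fin m) ℂ}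
    {a' b' : Matrix (Fin m') (Fin m') ℂ} (h : HeckeRep n u v a b)
    (h' : HeckeRep n u v a' b') (hτ : (a * b).trace = (a' * b').trace) (l : ℕ) :
    (altP l a b).trace = (altP l a' b').trace ∧ (altP l b a).trace = (altP l b' a').trace := by
  subst hm
  subst hm'
  exact trace_determined h h' hτ l

theorem dim_one' {n m : ℕ} (hm : m = 1) {u v : ℂ} {a b : Matrix (Fin m) (Fin m) ℂ} (h : HeckeRep n u v a b) :
    (a.trace = u ∨ a.trace = -1) ∧ (b.trace = v ∨ b.trace = -1) ∧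
    (∀ l, (altP l a b).trace = altP l a.trace b.trace) ∧ (∀ l, (altP l b a).trace = altP l b.trace a.trace) ∧
    (Odd n → u = v → u ≠ 0 → a.trace = b.trace) := by
  subst hm
  have ha : a.trace = a 0 0 := by simp [Matrix.trace]
  have hb : b.trace = b 0 0 := by simp [Matrix.trace]
  rw [ha, hb]
  exact dim_one h


/-! ## the rank 2 theorem -/
section main
variable {G : Type*} [Group G] [Fintype G] {P : Cfsg.BNPair G} {s₁ s₂ : P.S}

theorem card_W_rank2 [Fintype (Wg P)] (hr : Rank2 P s₁ s₂) :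
    Nat.card (Wg P) = 2 * orderOf (sig P s₁ * sig P s₂) := by
  have hx : sig P s₁ * sig P s₁ = 1 := (exSys_sig P).sq s₁
  have hy : sig P s₂ * sig P s₂ = 1 := (exSys_sig P).sq s₂
  have hn : 2 ≤ orderOf (sig P s₁ * sig P s₂) := two_le_orderOf_mul hx hy hr.hne
  have h := sum_dihedral (exSys_sig P) hr.hall hr.hne (fun _ => (1 : ℂ))
  simp only [Finset.sum_const, Finset.card_univ, Nat.card_Ico, nsmul_eq_mul, mul_one] at h
  rw [Nat.card_eq_fintype_card]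
  have h' : (Fintype.card (Wg P) : ℂ) = ((2 * orderOf (sig P s₁ * sig P s₂) : ℕ) : ℂ) := by
    rw [h]
    have : ((orderOf (sig P s₁ * sig P s₂) - 1 : ℕ) : ℂ) = (orderOf (sig P s₁ * sig P s₂) : ℂ) - 1 := by
      rw [Nat.cast_sub (by omega)]
      simp
    rw [this]
    push_cast
    ring
  exact_mod_cast h'

open Classical in
theorem feit_higman_rank2 [Fintype (Wg P)] (hr : Rank2 P s₁ s₂) :
    orderOf (sig P s₁ * sig P s₂) = 2 ∨ orderOf (sig P s₁ * sig P s₂) = 3 ∨ orderOf (sig P s₁ * sig P s₂) = 4 ∨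
      orderOf (sig P s₁ * sig P s₂) = 6 ∨ orderOf (sig P s₁ * sig P s₂) = 8 := by
  have : Fintype (Cfsg.IrrCharacter G) := Fintype.ofFinite _
  set x := sig P s₁ with hxdef
  set y := sig P s₂ with hydef
  set n := orderOf (x * y) with hndef
  set u := qidx P x with hudef
  set v := qidx P y with hvdef
  have hx : x * x = 1 := (exSys_sig P).sq s₁
  have hy : y * y = 1 := (exSys_sig P).sq s₂
  have hn : 2 ≤ n := two_le_orderOf_mul hx hy hr.hne
  have hu : 2 ≤ u := two_le_qidx_sig P s₁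
  have hv : 2 ≤ v := two_le_qidx_sig P s₂
  have hodd : Odd n → u = v := qidx_eq_of_odd hr
  have hu0 : (u : ℂ) ≠ 0 := by
    have : u ≠ 0 := by omega
    exact_mod_cast this
  have hv0 : (v : ℂ) ≠ 0 := by
    have : v ≠ 0 := by omega
    exact_mod_cast this
  -- the Hecke representations
  choose m a b hrep hm htr using (fun ζ : Cfsg.IrrCharacter G => exists_heckeRep hr ζ)
  have hrep' : ∀ ζ, HeckeRep n (u : ℂ) (v : ℂ) (a ζ) (b ζ) := hrep
  have hm2 : ∀ ζ, m ζ ≤ 2 := fun ζ => dim_le_two (hrep ζ) hu0 hv0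
  -- the total index
  set N : ℕ := ∑ w : Wg P, qidx P w with hNdef
  have hN : 0 < N := by
    apply Finset.sum_pos
    · intro w _
      exact qidx_pos P w
    · exact ⟨1, Finset.mem_univ _⟩
  -- the trace functions
  set F₀ : Cfsg.IrrCharacter G → ℕ → ℂ := fun ζ l => fz P (ζ : G → ℂ) (altP l x y) with hF0
  set F₁ : Cfsg.IrrCharacter G → ℕ → ℂ := fun ζ l => fz P (ζ : G → ℂ) (altP l y x) with hF1
  have hPP : ∀ ζ ζ' : Cfsg.IrrCharacter G, pair n u v (F₀ ζ) (F₁ ζ) (F₀ ζ') (F₁ ζ') =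
      if ζ = ζ' then (N : ℂ) * fz P (ζ : G → ℂ) 1 / (ζ : G → ℂ) 1 else 0 := fun ζ ζ' => pairing_pair hr ζ ζ'
  have hPPself : ∀ ζ : Cfsg.IrrCharacter G, m ζ ≠ 0 → pair n u v (F₀ ζ) (F₁ ζ) (F₀ ζ) (F₁ ζ) ≠ 0 := by
    intro ζ hmζ
    rw [hPP ζ ζ, if_pos rfl, ← hm ζ]
    obtain ⟨d, hd, hd1⟩ := Cfsg.Agent.Lib.Helper80.irr_one_eq_natCast ζ
    rw [hd1]
    have h1 : (N : ℂ) ≠ 0 := by exact_mod_cast hN.ne'
    have h2 : ((m ζ : ℕ) : ℂ) ≠ 0 := by exact_mod_cast hmζ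
    have h3 : (d : ℂ) ≠ 0 := by exact_mod_cast hd.ne'
    exact div_ne_zero (mul_ne_zero h1 h2) h3
  -- equal trace functions force equal characters
  have hFeq : ∀ ζ ζ' : Cfsg.IrrCharacter G, m ζ ≠ 0 → (∀ l ≤ n, F₀ ζ l = F₀ ζ' l) → (∀ l ≤ n, F₁ ζ l = F₁ ζ' l) →
      ζ = ζ' := by
    intro ζ ζ' hmζ h0 h1
    by_contra hne
    have e1 := hPP ζ ζ'
    rw [if_neg hne] at e1
    have e2 : pair n u v (F₀ ζ) (F₁ ζ) (F₀ ζ') (F₁ ζ') = pair n u v (F₀ ζ) (F₁ ζ) (F₀ ζ) (F₁ ζ) :=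
      pair_congr (fun _ _ => rfl) (fun _ _ => rfl) (fun l hl => (h0 l hl).symm) (fun l hl => (h1 l hl).symm)
    rw [e2] at e1
    exact hPPself ζ hmζ e1
  -- sum of squares of multiplicities
  have hsum : ∑ ζ : Cfsg.IrrCharacter G, m ζ ^ 2 = 2 * n := by
    have h1 := sum_mult_sq P
    rw [card_W_rank2 hr] at h1
    have h2 : ((∑ ζ : Cfsg.IrrCharacter G, m ζ ^ 2 : ℕ) : ℂ) = ((2 * n : ℕ) : ℂ) := by
      rw [← h1]
      push_cast
      apply Finset.sum_congr rfl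
      intro ζ _
      rw [hm ζ]
    exact_mod_cast h2
  -- matrix form of the trace functions
  have hF0tr : ∀ ζ : Cfsg.IrrCharacter G, ∀ l ≤ n, F₀ ζ l = (altP l (a ζ) (b ζ)).trace := fun ζ l hl => (htr ζ l hl).1
  have hF1tr : ∀ ζ : Cfsg.IrrCharacter G, ∀ l ≤ n, F₁ ζ l = (altP l (b ζ) (a ζ)).trace := fun ζ l hl => (htr ζ l hl).2
  -- the angle of a two-dimensional constituent
  have hj : ∀ ζ : Cfsg.IrrCharacter G, m ζ = 2 → ∃ j : ℕ, 0 < j ∧ 2 * j < n ∧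
      (a ζ * b ζ).trace = ((2 * Real.sqrt (u * v) * Real.cos (2 * Real.pi * j / n) : ℝ) : ℂ) ∧
      pair n u v (F₀ ζ) (F₁ ζ) (F₀ ζ) (F₁ ζ) = ((Dfun n u v j : ℝ) : ℂ) := by
    intro ζ hmζ
    obtain ⟨j, h1, h2, h3, h4⟩ := two_dim_main' hmζ hn hu hv hodd (hrep ζ)
    refine ⟨j, h1, h2, h3, ?_⟩
    rw [← h4]
    exact pair_congr (hF0tr ζ) (hF1tr ζ) (hF0tr ζ) (hF1tr ζ)
  set jf : Cfsg.IrrCharacter G → ℕ := fun ζ => if h : m ζ = 2 then (hj ζ h).choose else 0 with hjf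
  have hjf2 : ∀ ζ (h : m ζ = 2), jf ζ = (hj ζ h).choose := by
    intro ζ h
    simp only [hjf, dif_pos h]
  have hjspec : ∀ ζ : Cfsg.IrrCharacter G, m ζ = 2 → 0 < jf ζ ∧ 2 * jf ζ < n ∧
      (a ζ * b ζ).trace = ((2 * Real.sqrt (u * v) * Real.cos (2 * Real.pi * (jf ζ) / n) : ℝ) : ℂ) ∧
      pair n u v (F₀ ζ) (F₁ ζ) (F₀ ζ) (F₁ ζ) = ((Dfun n u v (jf ζ) : ℝ) : ℂ) := by
    intro ζ h
    rw [hjf2 ζ h]
    exact (hj ζ h).choose_spec
  -- injectivity on the two-dimensional constituents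
  have hinj : ∀ ζ ζ' : Cfsg.IrrCharacter G, m ζ = 2 → m ζ' = 2 → jf ζ = jf ζ' → ζ = ζ' := by
    intro ζ ζ' h h' hjj
    have hτ : (a ζ * b ζ).trace = (a ζ' * b ζ').trace := by
      rw [(hjspec ζ h).2.2.1, (hjspec ζ' h').2.2.1, hjj]
    apply hFeq ζ ζ' (by omega)
    · intro l hl
      rw [hF0tr ζ l hl, hF0tr ζ' l hl]
      exact (trace_determined' h h' (hrep ζ) (hrep ζ') hτ l).1
    · intro l hl
      rw [hF1tr ζ l hl, hF1tr ζ' l hl]
      exact (trace_determined' h h' (hrep ζ) (hrep ζ') hτ l).2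
  -- the one-dimensional constituents
  have h1 : (Finset.univ.filter (fun ζ : Cfsg.IrrCharacter G => m ζ = 1)).card ≤ if Even n then 4 else 2 := by
    set g : Cfsg.IrrCharacter G → ℂ × ℂ := fun ζ => ((a ζ).trace, (b ζ).trace) with hg
    have hginj : Set.InjOn g ↑(Finset.univ.filter (fun ζ : Cfsg.IrrCharacter G => m ζ = 1)) := by
      intro ζ hζ ζ' hζ' hgg
      rw [Finset.mem_coe, Finset.mem_filter] at hζ hζ'
      have ha : (a ζ).trace = (a ζ').trace := congrArg Prod.fst hgg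
      have hb : (b ζ).trace = (b ζ').trace := congrArg Prod.snd hgg
      have d1 := dim_one' hζ.2 (hrep' ζ)
      have d1' := dim_one' hζ'.2 (hrep' ζ')
      apply hFeq ζ ζ' (by omega)
      · intro l hl
        rw [hF0tr ζ l hl, hF0tr ζ' l hl, d1.2.2.1 l, d1'.2.2.1 l, ha, hb]
      · intro l hl
        rw [hF1tr ζ l hl, hF1tr ζ' l hl, d1.2.2.2.1 l, d1'.2.2.2.1 l, ha, hb]
    split_ifs with he
    · have hmaps : ∀ ζ ∈ Finset.univ.filter (fun ζ : Cfsg.IrrCharacter G => m ζ = 1),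
          g ζ ∈ ({((u : ℂ), (v : ℂ)), ((u : ℂ), -1), (-1, (v : ℂ)), (-1, -1)} : Finset (ℂ × ℂ)) := by
        intro ζ hζ
        rw [Finset.mem_filter] at hζ
        have d1 := dim_one' hζ.2 (hrep' ζ)
        simp only [Finset.mem_insert, Finset.mem_singleton, hg, Prod.mk.injEq]
        rcases d1.1 with h | h <;> rcases d1.2.1 with h' | h' <;> simp [h, h']
      exact (Finset.card_le_card_of_injOn g hmaps hginj).trans Finset.card_le_four
    · have ho : Odd n := Nat.not_even_iff_odd.mp he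
      have huv := hodd ho
      have hmaps : ∀ ζ ∈ Finset.univ.filter (fun ζ : Cfsg.IrrCharacter G => m ζ = 1),
          g ζ ∈ ({((u : ℂ), (u : ℂ)), (-1, -1)} : Finset (ℂ × ℂ)) := by
        intro ζ hζ
        rw [Finset.mem_filter] at hζ
        have d1 := dim_one' hζ.2 (hrep' ζ)
        have hab := d1.2.2.2.2 ho (by rw [huv]) hu0
        simp only [Finset.mem_insert, Finset.mem_singleton, hg, Prod.mk.injEq]
        rw [← hab]
        rcases d1.1 with h | h <;> simp [h]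
      exact (Finset.card_le_card_of_injOn g hmaps hginj).trans Finset.card_le_two
  have hm012 : ∀ ζ, m ζ = 0 ∨ m ζ = 1 ∨ m ζ = 2 := by
    intro ζ
    have := hm2 ζ
    omega
  have hsurj := surj_of_count hn m hm012 hsum h1 jf (fun ζ h => ⟨(hjspec ζ h).1, (hjspec ζ h).2.1⟩) hinj
  -- conclusion
  apply arith hn hu hv hodd hN
  intro j hj0 hjn
  obtain ⟨ζ, hmζ, hjζ⟩ := hsurj j hj0 hjn
  obtain ⟨d, hd, hd1⟩ := Cfsg.Agent.Lib.Helper80.irr_one_eq_natCast ζ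
  refine ⟨d, ?_⟩
  have e1 := (hjspec ζ hmζ).2.2.2
  rw [hPP ζ ζ, if_pos rfl, ← hm ζ, hmζ, hd1, hjζ] at e1
  have h3 : (d : ℂ) ≠ 0 := by exact_mod_cast hd.ne'
  have e2 : ((d : ℝ) * Dfun n u v j : ℝ) = (2 * N : ℝ) := by
    have : (((d : ℝ) * Dfun n u v j : ℝ) : ℂ) = ((2 * N : ℝ) : ℂ) := by
      push_cast
      rw [← e1]
      field_simp
      norm_num
    exact_mod_cast this
  exact e2

end main


/-- **Feit–Higman** for finite groups with a (B,N)-pair of rank 2 -/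
theorem feit_higman {G : Type*} [Group G] [Finite G] (P : Cfsg.BNPair G) (h2 : P.rank = 2) :
    ((P.B ⊓ P.N).subgroupOf P.N).index ∈ ({4, 6, 8, 12, 16} : Set ℕ) := by
  classical
  have := Fintype.ofFinite G
  have : Fintype (Wg P) := Fintype.ofFinite _
  unfold BNPair.rank at h2
  obtain ⟨s₁, s₂, hne, huniv⟩ := Nat.card_eq_two_iff.mp h2
  have hr : Rank2 P s₁ s₂ := by
    refine ⟨fun i => ?_, ?_⟩
    · have hi : i ∈ (Set.univ : Set P.S) := Set.mem_univ i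
      rw [← huniv] at hi
      simpa using hi
    · intro h
      apply hne
      unfold sig at h
      rw [mk_eq_iff] at h
      exact Subtype.ext (P.inj _ s₁.2 _ s₂.2 h)
  have hcard := card_W_rank2 hr
  have hfh := feit_higman_rank2 hr
  rw [Subgroup.index_eq_card, hcard]
  simp only [Set.mem_insert_iff, Set.mem_singleton_iff]
  omega

end Cfsg.Agent.Lib.Helper6.FH
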